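import Mathlib

/-! # Integer core of S4615 (`k(B₀) = 4`, `l(B₀) = 2`)

Regular value vectors `(1, s + X m)`, singular value vectors `(1, t + Z v)`, `x = X(1)`, `n = |P|`,
`Δ = m·m + v·v`. -/

set_option autoImplicit false

namespace Cfsg.Lib.KB

open Matrix

structure I4 (n : ℕ) (s m t v : Fin 3 → ℤ) (x : ℤ) : Prop where
  pp : IsPrimePow n
  m0 : ∀ i, 0 ≤ m i
  mp : ∃ c, c ⬝ᵥ m = 1
  vp : ∃ c, c ⬝ᵥ v = 1
  ts : t ⬝ᵥ s = -1
  tm : t ⬝ᵥ m = 0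
  vs : v ⬝ᵥ s = 0
  vm : v ⬝ᵥ m = 0
  vv : v ⬝ᵥ v = (s ⬝ᵥ s) * (m ⬝ᵥ m) - (s ⬝ᵥ m) ^ 2
  dl : m ⬝ᵥ m + v ⬝ᵥ v = (1 + t ⬝ᵥ t) * (v ⬝ᵥ v) - (t ⬝ᵥ v) ^ 2
  rs : 2 * |s ⬝ᵥ m| ≤ m ⬝ᵥ m
  rt : 2 * |t ⬝ᵥ v| ≤ v ⬝ᵥ v
  tr : |s ⬝ᵥ m| ≤ 1 + s ⬝ᵥ s
  tr1 : 1 + s ⬝ᵥ s + s ⬝ᵥ m = 0 → x = 0 ∨ x = 1
  tr2 : 1 + s ⬝ᵥ s - s ⬝ᵥ m = 0 → x = 0 ∨ x = -1
  tsg : |t ⬝ᵥ v| ≤ 1 + t ⬝ᵥ t
  van1 : (n : ℤ) ∣ 1 + s ⬝ᵥ s + (s ⬝ᵥ m) * x
  van2 : (n : ℤ) ∣ s ⬝ᵥ m + (m ⬝ᵥ m) * x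
  frob : m ⬝ᵥ m + v ⬝ᵥ v ∣ n * (m ⬝ᵥ m)
  deg : ∀ i, 1 ≤ s i + m i * x
  lin : ∀ i, s i + m i * x = 1 →
    (m ⬝ᵥ m) * s i ^ 2 - 2 * (s ⬝ᵥ m) * s i * m i + (1 + s ⬝ᵥ s) * m i ^ 2 = m ⬝ᵥ m
  nz : ∀ i, t i ≠ 0 ∨ v i ≠ 0

/-- The conclusion of the integer core. -/
def Concl (n : ℕ) (s m t v : Fin 3 → ℤ) : Prop :=
  n = 2 ∨ n = 3 ∨ n = 5 ∨ n = 11 ∨ (n = 4 ∧ ∃ (i j : Fin 3) (e : ℤ), (e = 1 ∨ e = -1) ∧ s i = 1 ∧
    m i = 0 ∧ t i = -1 ∧ t j = 0 ∧ v i = 2 * e * v j)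

variable {n : ℕ} {s m t v : Fin 3 → ℤ} {x : ℤ}

theorem dsn (a : Fin 3 → ℤ) : 0 ≤ a ⬝ᵥ a := Finset.sum_nonneg fun i _ => mul_self_nonneg (a i)

theorem mem3 {y : ℤ} (h : -1 ≤ y ∧ y ≤ 1) : y ∈ [(-1 : ℤ), 0, 1] := by simp; omega

theorem mem5 {y : ℤ} (h : 0 ≤ y) (h' : y ≤ 4) : y ∈ [(0 : ℤ), 1, 2, 3, 4] := by simp; omega

theorem mem5' {y : ℤ} (h : -2 ≤ y ∧ y ≤ 2) : y ∈ [(-2 : ℤ), -1, 0, 1, 2] := by simp; omega

theorem ss_fin : ∀ a ∈ [(-1 : ℤ), 0, 1], ∀ b ∈ [(-1 : ℤ), 0, 1], ∀ c ∈ [(-1 : ℤ), 0, 1],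
    ∀ d ∈ [(0 : ℤ), 1, 2, 3, 4], ∀ e ∈ [(0 : ℤ), 1, 2, 3, 4], ∀ f ∈ [(0 : ℤ), 1, 2, 3, 4],
    2 ≤ a * a + b * b + c * c → (a * a + b * b + c * c - 1) * (d * d + e * e + f * f) ≤ |a * d + b * e + c * f| ^ 2 →
    2 * |a * d + b * e + c * f| ≤ d * d + e * e + f * f → |a * d + b * e + c * f| ≤ 1 + (a * a + b * b + c * c) →
    ¬ (2 ∣ d ∧ 2 ∣ e ∧ 2 ∣ f) → (1 + (a * a + b * b + c * c) + (a * d + b * e + c * f) = 0 ∨
      1 + (a * a + b * b + c * c) - (a * d + b * e + c * f) = 0) ∧ ∀ x ∈ [(-1 : ℤ), 0, 1],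
      (1 + (a * a + b * b + c * c) + (a * d + b * e + c * f) = 0 → x = 0 ∨ x = 1) →
      (1 + (a * a + b * b + c * c) - (a * d + b * e + c * f) = 0 → x = 0 ∨ x = -1) →
      ¬ (1 ≤ a + d * x ∧ 1 ≤ b + e * x ∧ 1 ≤ c + f * x) := by
  decide +kernel

theorem tt_fin : ∀ a ∈ [(-1 : ℤ), 0, 1], ∀ b ∈ [(-1 : ℤ), 0, 1], ∀ c ∈ [(-1 : ℤ), 0, 1],
    ∀ d ∈ [(-2 : ℤ), -1, 0, 1, 2], ∀ e ∈ [(-2 : ℤ), -1, 0, 1, 2], ∀ f ∈ [(-2 : ℤ), -1, 0, 1, 2],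
    a * a + b * b + c * c = 2 → 3 ^ 2 = (a * d + b * e + c * f) ^ 2 → d * d + e * e + f * f ≤ 8 →
    2 * 3 ≤ d * d + e * e + f * f → d * d + e * e + f * f = 6 := by
  decide +kernel

/-- `c² + τ² = T N`, `|τ| ≤ 2 + T`, `2|τ| ≤ N`, `2 ≤ N`, `¬ 4 ∣ N`: multiply by `N`:
`N |τ| ≤ 2N + c² + τ²` forces `|τ| ≤ 4`; then `N ∣ c² + τ²`; check `|τ| = 0..4`. -/
theorem small {c τ T N : ℤ} (hc : c ^ 2 = 1 ∨ c ^ 2 = 4) (h : c ^ 2 + τ ^ 2 = T * N)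
    (h1 : |τ| ≤ 2 + T) (h2 : 2 * |τ| ≤ N) (h3 : 2 ≤ N) (h4 : ¬ 4 ∣ N) :
    N = 2 ∨ N = 5 ∨ N = 10 ∨ (N = 13 ∧ c ^ 2 = 4) := by
  rw [← sq_abs τ] at h
  have a0 := abs_nonneg τ
  generalize |τ| = a at *
  generalize c ^ 2 = d at *
  have a4 : a ≤ 4 := by
    by_contra e
    have : N * (a - 2) ≤ T * N := by nlinarith
    have : 2 * a * (a - 2) ≤ N * (a - 2) := by nlinarith
    rcases hc with rfl | rfl <;> nlinarith
  have T1 : 1 ≤ T := by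
    by_contra e
    have : T * N ≤ 0 := by nlinarith
    rcases hc with rfl | rfl <;> nlinarith
  have N20 : N ≤ 20 := by rcases hc with rfl | rfl <;> nlinarith
  rcases hc with rfl | rfl <;> interval_cases a <;> interval_cases N <;> omega

theorem not_four {a b c d : ℤ} (h : c * a + d * b = 1) : ¬ 4 ∣ a * a + b * b := fun e => by
  obtain ⟨k, rfl | rfl⟩ := Int.even_or_odd' a <;> obtain ⟨l, rfl | rfl⟩ := Int.even_or_odd' b
  · have : 2 * (c * k + d * l) = 1 := by linarith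
    omega
  · rw [show 2 * k * (2 * k) + (2 * l + 1) * (2 * l + 1) = 4 * (k * k + l * l + l) + 1 by ring] at e; omega
  · rw [show (2 * k + 1) * (2 * k + 1) + 2 * l * (2 * l) = 4 * (k * k + l * l + k) + 1 by ring] at e; omega
  · rw [show (2 * k + 1) * (2 * k + 1) + (2 * l + 1) * (2 * l + 1) = 4 * (k * k + l * l + k + l) + 2 by ring] at e
    omega

theorem eight_mod {a b : ℤ} (h : ¬ 4 ∣ a * a + b * b) (h2 : 2 ∣ a * a + b * b) : (a * a + b * b) % 8 = 2 := by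
  obtain ⟨k, rfl | rfl⟩ := Int.even_or_odd' a <;> obtain ⟨l, rfl | rfl⟩ := Int.even_or_odd' b
  · exact absurd ⟨k * k + l * l, by ring⟩ h
  · rw [show 2 * k * (2 * k) + (2 * l + 1) * (2 * l + 1) = 4 * (k * k + l * l + l) + 1 by ring] at h2; omega
  · rw [show (2 * k + 1) * (2 * k + 1) + 2 * l * (2 * l) = 4 * (k * k + l * l + k) + 1 by ring] at h2; omega
  · obtain ⟨i, hi⟩ := Int.even_mul_succ_self k
    obtain ⟨j, hj⟩ := Int.even_mul_succ_self l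
    rw [show (2 * k + 1) * (2 * k + 1) + (2 * l + 1) * (2 * l + 1) = 4 * (k * (k + 1)) + 4 * (l * (l + 1)) + 2 by ring,
      hi, hj]
    omega

theorem pp_four (pp : IsPrimePow n) (h : n % 8 = 4) : n = 4 := by
  obtain ⟨p, k, hp, -, rfl⟩ := (isPrimePow_nat_iff n).1 pp
  obtain rfl := (Nat.prime_dvd_prime_iff_eq Nat.prime_two hp).1 (Nat.prime_two.dvd_of_dvd_pow (show 2 ∣ p ^ k by omega))
  rcases lt_or_ge k 3 with e | e
  · interval_cases k <;> omega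
  · have : 2 ^ 3 ∣ 2 ^ k := pow_dvd_pow 2 e
    omega

theorem pp_two {a b : ℕ} (pp : IsPrimePow n) (ha : a.Prime) (hb : b.Prime) (h : a ∣ n) (h' : b ∣ n) : a = b := by
  obtain ⟨p, k, hp, -, rfl⟩ := (isPrimePow_nat_iff n).1 pp
  rw [(Nat.prime_dvd_prime_iff_eq ha hp).1 (ha.dvd_of_dvd_pow h), (Nat.prime_dvd_prime_iff_eq hb hp).1 (hb.dvd_of_dvd_pow h')]

theorem fin_one {N : ℤ} (pp : IsPrimePow n) (e : (n : ℤ) = 2 * N + 1) (h : N = 2 ∨ N = 5 ∨ N = 10) :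
    Concl n s m t v := by
  rcases h with rfl | rfl | rfl
  · exact .inr (.inr (.inl (by omega)))
  · exact .inr (.inr (.inr (.inl (by omega))))
  · exact absurd (pp_two pp Nat.prime_three (by norm_num : Nat.Prime 7) (by omega) (by omega)) (by decide)

/-- Case `s = (ε,0,0)`. `deg`: `m 1, m 2, x ≥ 1`; `N = m1² + m2²`, `tr`: `m 0 ≤ 2`; `vs`: `v 0 = 0`,
`vv`: `v·v = N`, and `vp` gives `¬ 4 ∣ N` (`v 1, v 2` not both even).  `m 0 = 0`: `van1` gives `n ∣ 2`.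
`m 0 = 1`: `Δ = 2N+1`, `van1, van2` give `n ∣ Δ`, `frob` (coprime to `N+1`) gives `Δ ∣ n`; `t 0 = -ε`,
`dl`: `1 + τ² = (t1²+t2²) N`, `small`: `n ∈ {5, 11, 21}`.  `m 0 = 2`: `tr1/tr2, deg` give `ε = -1`,
`x = 1`; `n ∣ N + 2 = n c`, `frob`: `2c ∣ n c + 2`, so `c ∣ 2`; `c = 2`: `n` odd, `4 ∣ N`; `c = 1`: `n` even,
`N ≡ 2 mod 8` (`v 1, v 2` odd), `n ≡ 4 mod 8` is a power of 2, `n = 4`, `m 1 = 1`, `lin 1` says `2 = 6`. -/
theorem I4.s_one (h : I4 n s m t v x) (h0 : s 0 = 1 ∨ s 0 = -1) (h1 : s 1 = 0) (h2 : s 2 = 0) :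
    Concl n s m t v := by
  obtain ⟨c, hc⟩ := h.vp
  have m0 := h.m0 0; have m1 := h.m0 1; have m2 := h.m0 2
  have d1 := h.deg 1; have d2 := h.deg 2; have l1 := h.lin 1
  have ts := h.ts; have vs := h.vs; have vv := h.vv; have dl := h.dl; have rt := h.rt; have tr := h.tr
  have tr1 := h.tr1; have tr2 := h.tr2; have tsg := h.tsg; have van1 := h.van1; have van2 := h.van2
  have frob := h.frob; have pp := h.pp
  have n0 : (0 : ℤ) < n := by exact_mod_cast pp.pos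
  simp only [dotProduct, Fin.sum_univ_three, h1, h2, mul_zero, zero_mul, add_zero, zero_add] at hc d1 d2 l1 ts vs vv dl rt tr tr1 tr2 tsg van1 van2 frob
  have v0 : v 0 = 0 := by rcases h0 with e | e <;> rw [e] at vs <;> omega
  have ss : s 0 * s 0 = 1 := by rcases h0 with e | e <;> simp [e]
  have tt : t 0 * t 0 = 1 := by
    rcases h0 with e | e <;> rw [e] at ts
    · rw [show t 0 = -1 by omega]; rfl
    · rw [show t 0 = 1 by omega]; rfl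
  have x1 : 1 ≤ x := by
    by_contra e
    nlinarith
  have p1 : 1 ≤ m 1 := by
    by_contra e
    rw [show m 1 = 0 by omega] at d1; omega
  have p2 : 1 ≤ m 2 := by
    by_contra e
    rw [show m 2 = 0 by omega] at d2; omega
  simp only [v0, ss, tt, mul_zero, zero_add, sq] at hc vv dl rt tr tr1 tr2 tsg van1 frob
  obtain ⟨N, hN⟩ : ∃ N, N = m 1 * m 1 + m 2 * m 2 := ⟨_, rfl⟩
  have N2 : 2 ≤ N := by nlinarith
  have vN : v 1 * v 1 + v 2 * v 2 = N := by linear_combination vv - hN - m 0 * m 0 * ss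
  have N4 := vN ▸ not_four hc
  rw [add_assoc (m 0 * m 0), ← hN] at van2 frob dl l1
  rw [vN] at dl rt frob
  have m3 : m 0 ≤ 2 := by
    rcases h0 with e | e <;> rw [e] at tr <;> simp [abs_of_nonneg m0] at tr <;> omega
  obtain e | e | e : m 0 = 0 ∨ m 0 = 1 ∨ m 0 = 2 := by omega
  · rw [e] at van1
    have d : n ∣ 2 := by exact_mod_cast (show (n : ℤ) ∣ 2 by simpa using van1)
    exact .inl (((Nat.dvd_prime Nat.prime_two).1 d).resolve_left pp.ne_one)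
  · rw [e] at van1 van2 frob dl
    have a1 : (n : ℤ) ∣ 2 * N + 1 := by
      have := (van1.mul_left (N + 1)).sub (van2.mul_left (s 0))
      rwa [show (N + 1) * (1 + 1 + s 0 * 1 * x) - s 0 * (s 0 * 1 + (1 * 1 + N) * x) = 2 * N + 2 - s 0 * s 0 by ring,
        ss, show 2 * N + 2 - 1 = 2 * N + 1 by ring] at this
    have a2 : 2 * N + 1 ∣ n := IsCoprime.dvd_of_dvd_mul_right (z := 1 * 1 + N) ⟨-1, 2, by ring⟩
      (by rwa [show 1 * 1 + N + N = 2 * N + 1 by ring] at frob)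
    refine fin_one pp (Int.dvd_antisymm n0.le (by omega) a1 a2) ((small (c := 1) (τ := t 1 * v 1 + t 2 * v 2)
      (T := t 1 * t 1 + t 2 * t 2) (.inl rfl) (by linarith) (by linarith) rt N2 N4).imp_right
      (Or.imp_right (Or.resolve_right · (by norm_num))))
  · exfalso
    rw [e] at tr1 tr2 van2 frob l1
    obtain ⟨s0, rfl⟩ : s 0 = -1 ∧ x = 1 := by rcases h0 with f | f <;> rw [f] at tr1 tr2 <;> omega
    rw [s0] at van2
    obtain ⟨c, hc'⟩ := van2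
    have c0 : 0 < c := (mul_pos_iff_of_pos_left n0).1 (by linarith)
    have a1 : 2 * c ∣ n * c + 2 := Int.dvd_of_mul_dvd_mul_left n0.ne' (by
      rwa [show 2 * 2 + N + N = n * (2 * c) by linarith, show 2 * 2 + N = n * c + 2 by linarith] at frob)
    have a2 : c ∣ 2 := (dvd_add_right (dvd_mul_left c n)).1 ((dvd_mul_left c 2).trans a1)
    have := Int.le_of_dvd (by norm_num) a2
    obtain rfl | rfl : c = 1 ∨ c = 2 := by omega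
    · have a3 := vN ▸ eight_mod (vN ▸ N4) (by rw [vN]; omega)
      have a4 := pp_four pp (by omega)
      have q1 : m 1 = 1 := by
        have := mul_self_nonneg (m 2)
        have f : m 1 * m 1 ≤ 2 := by omega
        clear * - f p1
        nlinarith
      rw [q1] at l1
      omega
    · omega

/-- Case `t = (ε,0,0)` and `m·m < v·v`. `tm`: `m 0 = 0`; `ts, deg 0`: `s 0 = 1`, `ε = -1`; `τ = -v 0`,
`tsg`: `|v 0| ≤ 2`; `dl`: `m·m = v1² + v2² = N`, so `v 0 ≠ 0`; `nz`: `N ≥ 2`; `mp`: `¬ 4 ∣ N`;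
`vv`: `v0² + σ² = (s1²+s2²) N`; `small` with `tr, rs`.  `|v 0| = 1`: `n = Δ = 2N+1` (`van`, `frob`).
`|v 0| = 2`: `Δ = 2N+4 ∣ n N` with `n` a prime power kills `N = 5, 10, 13`; `N = 2`: `m = (0,1,1)`,
`σ = 0`, `s1²+s2² = 2`, `van1`: `n ∣ 4`, `frob`: `8 ∣ 2n`, `n = 4`, `i = 0, j = 1, e = v0 v1 / 2`. -/
theorem I4.t_one (h : I4 n s m t v x) (hv : m ⬝ᵥ m < v ⬝ᵥ v) (h0 : t 0 = 1 ∨ t 0 = -1)
    (h1 : t 1 = 0) (h2 : t 2 = 0) : Concl n s m t v := by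
  obtain ⟨c, hc⟩ := h.mp
  have m1 := h.m0 1; have m2 := h.m0 2
  have d0 := h.deg 0; have z1 := (h.nz 1).resolve_left (· h1); have z2 := (h.nz 2).resolve_left (· h2)
  have ts := h.ts; have tm := h.tm; have vv := h.vv; have dl := h.dl; have rs := h.rs; have tr := h.tr
  have tsg := h.tsg; have frob := h.frob; have pp := h.pp; have van1 := h.van1
  have n0 : (0 : ℤ) < n := by exact_mod_cast pp.pos
  have van : (n : ℤ) ∣ m ⬝ᵥ m + v ⬝ᵥ v := by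
    have := (h.van1.mul_left (m ⬝ᵥ m)).sub (h.van2.mul_left (s ⬝ᵥ m))
    rwa [show ∀ a b c d : ℤ, a * (1 + b + c * d) - c * (c + a * d) = a + (b * a - c ^ 2) by intros; ring, ← vv] at this
  simp only [dotProduct, Fin.sum_univ_three, h1, h2, zero_mul, add_zero] at hc ts tm vv dl rs tr tsg frob van van1 hv
  have m0 : m 0 = 0 := by rcases h0 with e | e <;> rw [e] at tm <;> omega
  obtain ⟨t0, s0⟩ : t 0 = -1 ∧ s 0 = 1 := by
    rw [m0] at d0; rcases h0 with e | e <;> rw [e] at ts <;> omega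
  simp only [m0, t0, s0, mul_zero, zero_add, neg_mul, one_mul, mul_neg, neg_neg, abs_neg, neg_sq] at hc vv dl rs tr tsg frob van van1 hv
  obtain ⟨N, hN⟩ : ∃ N, N = m 1 * m 1 + m 2 * m 2 := ⟨_, rfl⟩
  have N4 := hN ▸ not_four hc
  rw [← hN] at vv dl rs frob van hv
  have vN : v 1 * v 1 + v 2 * v 2 = N := by linarith
  have q1 := mul_self_pos.2 z1
  have q2 := mul_self_pos.2 z2
  have N2 : 2 ≤ N := by omega
  rw [add_assoc (v 0 * v 0), vN] at vv frob van hv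
  obtain ⟨l1, l2⟩ := abs_le.1 tsg
  have v0 : v 0 ≠ 0 := fun e => by rw [e] at hv; omega
  have hc : v 0 ^ 2 = 1 ∨ v 0 ^ 2 = 4 := by
    generalize v 0 = a at *
    interval_cases a <;> simp_all
  have k := small (τ := s 1 * m 1 + s 2 * m 2) (T := s 1 * s 1 + s 2 * s 2) hc (by linarith) (by linarith) rs N2 N4
  rw [← sq (v 0)] at vv frob van
  rcases hc with hc | hc <;> rw [hc] at vv frob van k
  · have a2 : 2 * N + 1 ∣ n := IsCoprime.dvd_of_dvd_mul_right (z := N) ⟨1, -2, by ring⟩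
      (by rwa [show N + (1 + N) = 2 * N + 1 by ring] at frob)
    exact fin_one pp (Int.dvd_antisymm n0.le (by omega) (by rwa [show N + (1 + N) = 2 * N + 1 by ring] at van) a2)
      (k.imp_right (Or.imp_right (Or.resolve_right · (by norm_num))))
  have := Int.le_of_dvd (by omega) van
  rcases k with rfl | rfl | rfl | ⟨rfl, -⟩
  · have a1 : m 1 = 1 ∧ m 2 = 1 := by
      have : m 1 ≤ 1 := by nlinarith
      have : m 2 ≤ 1 := by nlinarith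
      generalize m 1 = a at *; generalize m 2 = b at *
      interval_cases a <;> interval_cases b <;> omega
    rw [a1.1, a1.2] at rs vv van1
    obtain ⟨l3, l4⟩ := abs_le.1 (show |s 1 * 1 + s 2 * 1| ≤ 1 by omega)
    have z : s 1 * 1 + s 2 * 1 = 0 := by
      generalize s 1 * 1 + s 2 * 1 = σ at *
      interval_cases σ <;> omega
    rw [z] at vv van1
    rw [show 1 + (1 + s 1 * s 1 + s 2 * s 2) + 0 * x = 4 by omega] at van1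
    have := Int.le_of_dvd (by omega) van1
    have w1 : v 1 = 1 ∨ v 1 = -1 := mul_self_eq_one_iff.1 (by omega)
    have w0 : v 0 = 2 ∨ v 0 = -2 := sq_eq_sq_iff_eq_or_eq_neg.1 (by rw [hc]; rfl)
    refine .inr (.inr (.inr (.inr ⟨by omega, 0, 1, v 0 * v 1 / 2, ?_, s0, m0, t0, h1, ?_⟩))) <;>
      rcases w0 with e | e <;> rcases w1 with f | f <;> rw [e, f] <;> decide
  · exact absurd (pp_two pp Nat.prime_two (by norm_num : Nat.Prime 7) (by omega) (by omega)) (by decide)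
  · exact absurd (pp_two pp Nat.prime_two Nat.prime_three (by omega) (by omega)) (by decide)
  · exact absurd (pp_two pp Nat.prime_two Nat.prime_three (by omega) (by omega)) (by decide)

/-- `v·v ≤ m·m` forces `s·s = 1`: `(s·s - 1) m·m ≤ σ² ≤ |σ| m·m/2 ≤ (1+s·s) m·m/2` gives `s·s ≤ 3`;
`0` contradicts `ts`; `3`: `|σ| = 4`, `m·m = 8`, `m` a permutation of `(2,2,0)`, against `mp`;
`2`: `s = (±1,±1,0)` permuted, the third `m_k ≥ 1`, `x ≥ 1` (`deg`), `m·m ≤ σ²`, `2|σ| ≤ m·m`,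
`|σ| ≤ 3`: `|σ| = 2` needs `m·m = 4` (`m_k = 2`, `σ = 0`), so `|σ| = 3`, `tr1/tr2` give `σ = -3`,
`x = 1`, `s = (-1,-1,0)`, `m_i + m_j = 3` contradicts `deg` (`m_i, m_j ≥ 2`). -/
theorem I4.ss_one (h : I4 n s m t v x) (hv : v ⬝ᵥ v ≤ m ⬝ᵥ m) : s ⬝ᵥ s = 1 := by
  obtain ⟨c, hc⟩ := h.mp
  have m0 := h.m0 0; have m1 := h.m0 1; have m2 := h.m0 2
  have d0 := h.deg 0; have d1 := h.deg 1; have d2 := h.deg 2
  have ts := h.ts; have vv := h.vv; have rs := h.rs; have tr := h.tr; have tr1 := h.tr1; have tr2 := h.tr2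
  have M0 : 0 < m ⬝ᵥ m := by
    rcases (dsn m).eq_or_lt with e | e
    · rw [dotProduct_self_eq_zero.1 e.symm, dotProduct_zero] at hc; exact absurd hc (by decide)
    · exact e
  have a0 := abs_nonneg (s ⬝ᵥ m)
  have a2 := sq_abs (s ⬝ᵥ m)
  have S0 : 0 ≤ s ⬝ᵥ s := dsn s
  have k1 : (s ⬝ᵥ s - 1) * (m ⬝ᵥ m) ≤ |s ⬝ᵥ m| ^ 2 := by rw [a2]; linarith
  have k2 : 2 * |s ⬝ᵥ m| ^ 2 ≤ |s ⬝ᵥ m| * (m ⬝ᵥ m) := by nlinarith
  have k3 : 2 * (s ⬝ᵥ s - 1) ≤ |s ⬝ᵥ m| := by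
    by_contra e
    nlinarith
  have S3 : s ⬝ᵥ s ≤ 3 := by linarith
  have b : ∀ y : ℤ, y * y ≤ 3 → -1 ≤ y ∧ y ≤ 1 := fun y hy => ⟨by nlinarith, by nlinarith⟩
  have b' : ∀ y : ℤ, y * y ≤ 16 → y ≤ 4 := fun y hy => by nlinarith
  by_contra ne
  have S2 : 2 ≤ s ⬝ᵥ s := by
    have : s ⬝ᵥ s ≠ 0 := fun e => by
      rw [dotProduct_self_eq_zero.1 e, dotProduct_zero] at ts; exact absurd ts (by decide)
    omega
  have M16 : m ⬝ᵥ m ≤ 16 := by nlinarith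
  have q0 := mul_self_nonneg (s 0); have q1 := mul_self_nonneg (s 1); have q2 := mul_self_nonneg (s 2)
  have r0 := mul_self_nonneg (m 0); have r1 := mul_self_nonneg (m 1); have r2 := mul_self_nonneg (m 2)
  simp only [dotProduct, Fin.sum_univ_three] at S2 S3 M16 k1 rs tr tr1 tr2 hc
  obtain ⟨u, w⟩ := ss_fin (s 0) (mem3 (b _ (by linarith))) (s 1) (mem3 (b _ (by linarith)))
    (s 2) (mem3 (b _ (by linarith))) (m 0) (mem5 m0 (b' _ (by linarith))) (m 1) (mem5 m1 (b' _ (by linarith)))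
    (m 2) (mem5 m2 (b' _ (by linarith))) S2 k1 rs tr (fun ⟨⟨a, e0⟩, ⟨b, e1⟩, ⟨d, e2⟩⟩ => by
      rw [e0, e1, e2] at hc
      have : 2 * (c 0 * a + c 1 * b + c 2 * d) = 1 := by linarith
      omega)
  exact w x (mem3 (by omega)) tr1 tr2 ⟨d0, d1, d2⟩

/-- `m·m < v·v`: `(t·t - 1) v·v < τ² ≤ (1+t·t) v·v/2` gives `t·t ≤ 2`, `≠ 0` by `ts`. If `t·t = 2`:
`v·v < τ²`, `|τ| ≤ 3`, `2|τ| ≤ v·v` give `|τ| = 3`, `v·v ∈ {6,7,8}`, `|v_i|,|v_j| = 1,2`, so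
`v·v = 6`, `dl`: `m·m = 3`; `vv, rs`: `3 s·s - σ² = 6`, `|σ| ≤ 1`: `σ = 0`, `s·s = 2`, `van1`: `n ∣ 3`. -/
theorem I4.tt_one (h : I4 n s m t v x) (hv : m ⬝ᵥ m < v ⬝ᵥ v) : t ⬝ᵥ t = 1 ∨ n = 3 := by
  obtain ⟨c, hc⟩ := h.mp
  have ts := h.ts; have vv := h.vv; have rs := h.rs; have rt := h.rt; have tsg := h.tsg; have dl := h.dl
  have van1 := h.van1
  have M0 : 0 ≤ m ⬝ᵥ m := dsn m
  have a0 := abs_nonneg (t ⬝ᵥ v)
  have a2 := sq_abs (t ⬝ᵥ v)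
  have k1 : (t ⬝ᵥ t - 1) * (v ⬝ᵥ v) < |t ⬝ᵥ v| ^ 2 := by rw [a2]; linarith
  have k2 : 2 * |t ⬝ᵥ v| ^ 2 ≤ |t ⬝ᵥ v| * (v ⬝ᵥ v) := by nlinarith
  have k3 : 2 * (t ⬝ᵥ t - 1) < |t ⬝ᵥ v| := by
    by_contra e
    nlinarith
  have T0 : t ⬝ᵥ t ≠ 0 := fun e => by
    rw [dotProduct_self_eq_zero.1 e, zero_dotProduct] at ts; exact absurd ts (by decide)
  have T1 : 0 ≤ t ⬝ᵥ t := dsn t
  by_cases e : t ⬝ᵥ t = 1
  · exact .inl e
  have T2 : t ⬝ᵥ t = 2 := by omega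
  have A3 : |t ⬝ᵥ v| = 3 := by omega
  rw [A3] at a2 rt k1
  rw [T2] at k1 dl
  have V6 : v ⬝ᵥ v = 6 := by
    have b : ∀ y : ℤ, y * y ≤ 2 → -1 ≤ y ∧ y ≤ 1 := fun y hy => ⟨by nlinarith, by nlinarith⟩
    have b' : ∀ y : ℤ, y * y ≤ 8 → -2 ≤ y ∧ y ≤ 2 := fun y hy => ⟨by nlinarith, by nlinarith⟩
    have V8 : v ⬝ᵥ v ≤ 8 := by omega
    have q0 := mul_self_nonneg (t 0); have q1 := mul_self_nonneg (t 1); have q2 := mul_self_nonneg (t 2)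
    have r0 := mul_self_nonneg (v 0); have r1 := mul_self_nonneg (v 1); have r2 := mul_self_nonneg (v 2)
    simp only [dotProduct, Fin.sum_univ_three] at T2 a2 V8 rt ⊢
    exact tt_fin (t 0) (mem3 (b _ (by linarith))) (t 1) (mem3 (b _ (by linarith)))
      (t 2) (mem3 (b _ (by linarith))) (v 0) (mem5' (b' _ (by linarith))) (v 1) (mem5' (b' _ (by linarith)))
      (v 2) (mem5' (b' _ (by linarith))) T2 a2 V8 rt
  have M3 : m ⬝ᵥ m = 3 := by omega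
  rw [M3] at rs vv
  obtain ⟨l1, l2⟩ := abs_le.1 (show |s ⬝ᵥ m| ≤ 1 by omega)
  have z : s ⬝ᵥ m = 0 := by
    generalize s ⬝ᵥ m = σ at *
    interval_cases σ <;> omega
  rw [z] at vv van1
  rw [show s ⬝ᵥ s = 2 by omega] at van1
  have d : n ∣ 3 := by exact_mod_cast (show (n : ℤ) ∣ 3 by simpa using van1)
  exact .inr (((Nat.dvd_prime Nat.prime_three).1 d).resolve_left h.pp.ne_one)

theorem dot_perm (e : Equiv.Perm (Fin 3)) (a b : Fin 3 → ℤ) : (a ∘ e) ⬝ᵥ (b ∘ e) = a ⬝ᵥ b :=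
  Equiv.sum_comp e fun i => a i * b i

theorem I4.perm (h : I4 n s m t v x) (e : Equiv.Perm (Fin 3)) :
    I4 n (s ∘ e) (m ∘ e) (t ∘ e) (v ∘ e) x := by
  obtain ⟨c, hc⟩ := h.mp
  obtain ⟨d, hd⟩ := h.vp
  refine ⟨h.pp, fun i => h.m0 _, ⟨c ∘ e, ?_⟩, ⟨d ∘ e, ?_⟩, ?_, ?_, ?_, ?_, ?_, ?_, ?_, ?_, ?_, ?_, ?_,
    ?_, ?_, ?_, ?_, fun i => h.deg _, fun i => ?_, fun i => h.nz _⟩ <;> simp only [dot_perm]
  exacts [hc, hd, h.ts, h.tm, h.vs, h.vm, h.vv, h.dl, h.rs, h.rt, h.tr, h.tr1, h.tr2, h.tsg, h.van1,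
    h.van2, h.frob, h.lin (e i)]

theorem Concl.of_perm {e : Equiv.Perm (Fin 3)} (h : Concl n (s ∘ e) (m ∘ e) (t ∘ e) (v ∘ e)) :
    Concl n s m t v := by
  rcases h with h | h | h | h | ⟨h, i, j, a, b⟩
  exacts [.inl h, .inr (.inl h), .inr (.inr (.inl h)), .inr (.inr (.inr (.inl h))),
    .inr (.inr (.inr (.inr ⟨h, e i, e j, a, b⟩)))]

theorem unit_perm {a : Fin 3 → ℤ} (h : a ⬝ᵥ a = 1) : ∃ e : Equiv.Perm (Fin 3),
    ((a ∘ e) 0 = 1 ∨ (a ∘ e) 0 = -1) ∧ (a ∘ e) 1 = 0 ∧ (a ∘ e) 2 = 0 := by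
  simp only [dotProduct, Fin.sum_univ_three] at h
  have b : ∀ y : ℤ, y * y ≤ 1 → y = 0 ∨ y = 1 ∨ y = -1 := fun y hy => by
    have : -1 ≤ y ∧ y ≤ 1 := ⟨by nlinarith, by nlinarith⟩
    omega
  have p0 := mul_self_nonneg (a 0)
  have p1 := mul_self_nonneg (a 1)
  have p2 := mul_self_nonneg (a 2)
  rcases b (a 0) (by linarith) with h0 | h0
  · rcases b (a 1) (by linarith) with h1 | h1
    · refine ⟨Equiv.swap 0 2, ?_, by simpa [Equiv.swap_apply_def] using h1, by simpa using h0⟩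
      rw [h0, h1] at h
      simpa using mul_self_eq_one_iff.1 (by linarith : a 2 * a 2 = 1)
    · have : a 1 * a 1 = 1 := by rcases h1 with h1 | h1 <;> simp [h1]
      exact ⟨Equiv.swap 0 1, by simpa using h1, by simpa using h0,
        by simpa [Equiv.swap_apply_def] using mul_self_eq_zero.1 (by linarith : a 2 * a 2 = 0)⟩
  · have : a 0 * a 0 = 1 := by rcases h0 with h0 | h0 <;> simp [h0]
    exact ⟨1, by simpa using h0, by simpa using mul_self_eq_zero.1 (by linarith : a 1 * a 1 = 0),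
      by simpa using mul_self_eq_zero.1 (by linarith : a 2 * a 2 = 0)⟩

theorem I4.concl (h : I4 n s m t v x) : Concl n s m t v := by
  rcases le_or_gt (v ⬝ᵥ v) (m ⬝ᵥ m) with hv | hv
  · obtain ⟨e, a, b, c⟩ := unit_perm (h.ss_one hv)
    exact ((h.perm e).s_one a b c).of_perm
  · rcases h.tt_one hv with ht | h3
    · obtain ⟨e, a, b, c⟩ := unit_perm ht
      exact ((h.perm e).t_one (by rwa [dot_perm, dot_perm]) a b c).of_perm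
    · exact .inr (.inl h3)

end Cfsg.Lib.KB
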